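import Groth.Agent.RHomCx.Main
import Groth.Agent.RHomCx.Exists
import Groth.Agent.RHomCx.Dual
import Groth.Agent.DerPerf.Local
import Groth.Agent.DQPush.Basic
import Groth.Agent.DQCoh.AffineAmp
import Groth.Agent.DRingKP.DCEv
import Groth.Agent.DQCoh.TensorUnit

/-!
Vanishing of maps out of perfect objects.
-/

set_option autoImplicit false
set_option backward.isDefEq.respectTransparency false
set_option backward.isDefEq.respectTransparency.types false
set_option linter.style.haveILetI false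
set_option maxHeartbeats 1000000

universe u

open CategoryTheory Limits AlgebraicGeometry HomologicalComplex

attribute [local instance] HasDerivedCategory.standard

namespace Groth.Agent.PerfHom

open Groth.Agent.KFlat

variable {X : Scheme.{u}}

/-- `Hom(E, I)` in one degree for a bounded complex of free modules -/
lemma isZero_GE_free (I : CochainComplex X.Modules ℤ) (E : CochainComplex X.Modules ℤ) {c d : ℤ}
    (hE : DCoh.VanishesOutside E c d) (hfree : ∀ i, ∃ n : ℕ, Nonempty (E.X i ≅ FlatMod.freeMod X n)) (i : ℤ)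
    (h : ∀ k, c ≤ k → k ≤ d → IsZero (I.homology (i + k))) : IsZero (((RHomCx.GE E).obj I).homology i) := by
  let Q : CochainComplex X.Modules ℤ → Prop := fun C => IsZero (((RHomCx.GE C).obj I).homology i)
  have hiso : ∀ {C C' : CochainComplex X.Modules ℤ}, (C ≅ C') → Q C → Q C' := fun e hC =>
    hC.of_iso ((homologyFunctor _ _ i).mapIso ((RHomCx.geIso e).app I))
  have hzero : ∀ C, IsZero C → Q C := fun C hC =>
    (RHomCx.exactAt_GE_of_homotopy i fun Z φ =>
      ⟨Homotopy.ofEq ((RHomCx.isZero_FE hC _).eq_of_src φ 0)⟩).isZero_homology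
  have hmid : ∀ {S : ShortComplex (CochainComplex X.Modules ℤ)},
      (∀ n, (S.map (eval X.Modules (ComplexShape.up ℤ) n)).Splitting) → Q S.X₁ → Q S.X₃ → Q S.X₂ :=
    fun σ h₁ h₃ => ((RHomCx.shortExact_gSC σ I).homology_exact₂ i).isZero_of_both_zeros
      (h₃.eq_of_src _ _) (h₁.eq_of_tgt _ _)
  refine ProjForm.Stupid.prop_of_bounded E Q hiso hzero hmid (fun j hj => hE j (Or.inl hj))
    (fun j hj => hE j (Or.inr hj)) (fun k => ?_)
  by_cases hk : c ≤ k ∧ k ≤ d
  · obtain ⟨n, ⟨e⟩⟩ := hfree k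
    let e' : FlatMod.freeMod X n ≅ ∐ fun _ : ULift.{u} (Fin n) => Coh.structureModule X :=
      Sigma.whiskerEquiv (g := fun _ : ULift.{u} (Fin n) => Coh.structureModule X) Equiv.ulift.symm
        fun _ => Iso.refl _
    refine hiso ((single X.Modules (ComplexShape.up ℤ) k).mapIso (e ≪≫ e').symm) ?_
    exact ProjForm.prop_single_coprod Q hiso hzero hmid k _ fun _ =>
      (h k hk.1 hk.2).of_iso (RHomCx.nonempty_GE_single I k i).some
  · exact hzero _ ((single X.Modules (ComplexShape.up ℤ) k).map_isZero (hE k (by omega)))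

/-- near every point `K` is a bounded complex of locally free modules in degrees `[c, d]` -/
def LocIn (c d : ℤ) (K : CochainComplex X.Modules ℤ) : Prop :=
  ∀ x : X, ∃ (V : X.Opens) (E : CochainComplex (V : Scheme.{u}).Modules ℤ), x ∈ V ∧
    DCoh.VanishesOutside E c d ∧ (∀ n, FlatMod.IsFinLocFree (E.X n)) ∧
      Nonempty (DerivedCategory.Q.obj ((DCoh.restrictCx V).obj K) ≅ DerivedCategory.Q.obj E)

/-- `RHom(K, L)` in a degree only sees a window of the cohomology of `L` -/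
theorem isZero_HD_RSheafHom (K : CochainComplex X.Modules ℤ) {c d : ℤ} (hK : LocIn c d K)
    [DCoh.HasLTensorCx K] [DCoh.HasRSheafHom K] (L : DCoh.D X) (i : ℤ)
    (h : ∀ k, c ≤ k → k ≤ d → IsZero (DCoh.HD L (i + k))) :
    IsZero (DCoh.HD ((DCoh.RSheafHom K).obj L) i) := by
  obtain ⟨I, hI, ⟨e⟩⟩ := RHomCx.exists_kInjective_rep L
  haveI := hI
  obtain ⟨e'⟩ := RHomCx.nonempty_HD_RSheafHom' K e i
  refine IsZero.of_iso ?_ e'
  let K' := (resF X).obj K
  have hK' : DCoh.IsKFlat K' := isKFlat_resF K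
  refine K0Coh.isZero_of_restrict_cover (fun x => ((hK x).choose)) (fun x => (hK x).choose_spec.choose_spec.1) fun x => ?_
  obtain ⟨E, -, hv, hl, ⟨a⟩⟩ := (hK x).choose_spec
  let V := (hK x).choose
  have hEk : DCoh.IsKFlat E :=
    DerPerf.isKFlat_of_isStrictlyPerfect (E := E) ⟨⟨c, d, hv⟩, hl⟩
  haveI := RHomCx.isKInjective_restrictCx V I
  let IV := (DCoh.restrictCx V).obj I
  haveI : IV.IsKInjective := RHomCx.isKInjective_restrictCx V I
  obtain ⟨b⟩ := RHomCx.nonempty_GE_congr (DerPerf.isKFlat_restrictCx V hK') hEk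
    (asIso (DerivedCategory.Q.map ((DCoh.restrictCx V).map ((resψ X).app K))) ≪≫ a) IV i
  refine IsZero.of_iso ?_ (RHomCx.geRestrictHIso V K' I i ≪≫ b)
  have hIV : ∀ k, c ≤ k → k ≤ d → IsZero (IV.homology (i + k)) := fun k h1 h2 =>
    ((Scheme.Modules.restrictFunctor V.ι).map_isZero ((h k h1 h2).of_iso
      ((KFlat.hdIso I (i + k)).symm ≪≫ (DerivedCategory.homologyFunctor _ (i + k)).mapIso e))).of_iso
      (RHomCx.restrictHIso V I (i + k))
  choose W hW hfree using fun w : ↑(V : Scheme.{u}) =>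
    DerPerf.exists_common_free (Finset.Icc c d) (fun n => E.X n) (fun n _ => hl n) w
  refine K0Coh.isZero_of_restrict_cover W hW fun w => ?_
  refine IsZero.of_iso ?_ (RHomCx.geRestrictHIso (W w) E IV i)
  refine isZero_GE_free _ _ (c := c) (d := d)
    (fun n hn => (Scheme.Modules.restrictFunctor (W w).ι).map_isZero (hv n hn)) (fun n => ?_) i fun k h1 h2 =>
      ((Scheme.Modules.restrictFunctor (W w).ι).map_isZero (hIV k h1 h2)).of_iso (RHomCx.restrictHIso (W w) IV (i + k))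
  by_cases hn : n ∈ Finset.Icc c d
  · obtain ⟨m, ⟨g⟩⟩ := hfree w n hn
    exact ⟨m, ⟨(Scheme.Modules.restrictFunctorIsoPullback (W w).ι).app (E.X n) ≪≫ g⟩⟩
  · refine ⟨0, ⟨((Scheme.Modules.restrictFunctor (W w).ι).map_isZero (hv n (by rw [Finset.mem_Icc] at hn; omega))).iso ?_⟩⟩
    rw [IsZero.iff_id_eq_zero]
    exact Sigma.hom_ext _ _ fun j => j.elim0

lemma locIn_single {F : X.Modules} (hF : FlatMod.IsFinLocFree F) :
    LocIn 0 0 ((single X.Modules (ComplexShape.up ℤ) 0).obj F) := fun x => by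
  refine ⟨⊤, (DCoh.restrictCx ⊤).obj ((single X.Modules (ComplexShape.up ℤ) 0).obj F), trivial, fun n hn => ?_,
    fun n => ?_, ⟨Iso.refl _⟩⟩
  · exact (Scheme.Modules.restrictFunctor _).map_isZero (isZero_single_obj_X (ComplexShape.up ℤ) 0 F n (by omega))
  · rcases eq_or_ne n 0 with rfl | hn
    · exact DQCoh.isFinLocFree_of_iso' (((Scheme.Modules.restrictFunctor _).mapIso
        (singleObjXSelf (ComplexShape.up ℤ) 0 F)) ≪≫ (Scheme.Modules.restrictFunctorIsoPullback _).app F).symm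
        (DerPerf.isFinLocFree_pullback _ hF)
    · exact DQCoh.isFinLocFree_of_isZero
        ((Scheme.Modules.restrictFunctor _).map_isZero (isZero_single_obj_X (ComplexShape.up ℤ) 0 F n hn))

lemma exists_locIn [CompactSpace X] {K : CochainComplex X.Modules ℤ} (hK : DCoh.IsPerfect (DCoh.toD X K)) :
    ∃ c d : ℤ, c ≤ d ∧ LocIn c d K := by
  have h := (DerPerf.isPerfect_iff_rep (Iso.refl (DCoh.toD X K))).1 hK
  choose V hx E hE e using h
  choose a b hab using fun x => (hE x).1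
  obtain ⟨t, ht⟩ := isCompact_univ.elim_finite_subcover (fun x : X => (V x : Set X)) (fun x => (V x).2)
    (fun x _ => Set.mem_iUnion.2 ⟨x, hx x⟩)
  obtain ⟨A, hA⟩ := (t.image a).finite_toSet.bddBelow
  obtain ⟨B, hB⟩ := (t.image b).finite_toSet.bddAbove
  refine ⟨A, max A B, le_max_left _ _, fun x => ?_⟩
  obtain ⟨y, hy, hxy⟩ := Set.mem_iUnion₂.1 (ht (Set.mem_univ x))
  refine ⟨V y, E y, hxy, fun n hn => hab y n ?_, (hE y).2, e y⟩
  have h1 := hA (Finset.mem_coe.2 (Finset.mem_image_of_mem a hy))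
  have h2 := hB (Finset.mem_coe.2 (Finset.mem_image_of_mem b hy))
  omega

section Affine

variable {R : Type u} [CommRing R]

/-- maps out of `O` on an affine scheme -/
theorem eq_zero_of_affine (M : DCoh.D (Spec (CommRingCat.of R))) (hM : DCoh.IsQCohD M) (h : IsZero (DCoh.HD M 0))
    (φ : DCoh.inD _ (Coh.structureModule (Spec (CommRingCat.of R))) ⟶ M) : φ = 0 := by
  haveI : PreservesFiniteLimits (tilde.functor (CommRingCat.of R)) := QC.tilde_preservesFiniteLimits
  obtain ⟨hfull, -, hess⟩ := DQCoh.tildeD_affine (R := CommRingCat.of R)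
  obtain ⟨K, ⟨eK⟩⟩ := (hess M).1 hM
  let P : ModuleCat.{u} R := ModuleCat.of R R
  let e₀ : (DCoh.tildeD (CommRingCat.of R)).obj ((DerivedCategory.singleFunctor (ModuleCat.{u} R) 0).obj P) ≅
      DCoh.inD _ (Coh.structureModule (Spec (CommRingCat.of R))) :=
    (DCoh.tildeD (CommRingCat.of R)).mapIso ((DerivedCategory.singleFunctorIsoCompQ _ 0).app P) ≪≫
      DQCoh.tildeToDIso _ ≪≫
      DerivedCategory.Q.mapIso ((singleMapHomologicalComplex (tilde.functor (CommRingCat.of R)) (ComplexShape.up ℤ) 0).app P) ≪≫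
      ((DerivedCategory.singleFunctorIsoCompQ _ 0).app _).symm
  obtain ⟨ψ, hψ⟩ := hfull.map_surjective (e₀.hom ≫ φ ≫ eK.inv)
  haveI : Projective P := (IsProjective.iff_projective P).1 inferInstance
  have hK : IsZero ((DerivedCategory.homologyFunctor (ModuleCat.{u} R) 0).obj K) :=
    DQCoh.isZero_of_tilde (h.of_iso ((DQCoh.hdTildeIso K 0).symm ≪≫
      (DerivedCategory.homologyFunctor _ 0).mapIso eK))
  have : ψ = 0 := (DRingKP.ev0_bijective K).1 (hK.eq_of_tgt _ _)
  rw [this, Functor.map_zero] at hψ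
  rw [← cancel_mono eK.inv, ← cancel_epi e₀.hom, ← hψ]
  simp

end Affine

/-- maps out of `O` and direct images to an affine scheme -/
theorem eq_zero_of_rpush [CompactSpace X] [QuasiSeparatedSpace X] : ∃ N : ℕ, ∀ M : DCoh.D X, DCoh.IsQCohD M →
    (∀ k : ℤ, -(N : ℤ) ≤ k → k ≤ 0 → IsZero (DCoh.HD M k)) →
    ∀ φ : DCoh.inD X (Coh.structureModule X) ⟶ M, φ = 0 := by
  let T := Spec (CommRingCat.of Γ(X, ⊤))
  let p : X ⟶ T := X.toSpecΓ
  haveI : QuasiCompact p := inferInstanceAs (QuasiCompact X.toSpecΓ)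
  haveI : QuasiSeparated p := (HasAffineProperty.iff_of_isAffine (P := @QuasiSeparated)).2 inferInstance
  haveI := DerPush.hasRpush_sch p
  haveI := KFlat.hasLpull p
  obtain ⟨N, hN⟩ := DQPush.exists_trunc_bound p
  refine ⟨N, fun M hM hz φ => ?_⟩
  let t := DerivedCategory.TStructure.t (C := X.Modules)
  let M' := (t.truncGE (-(N : ℤ))).obj M
  haveI hge : M'.IsGE 1 := (DerivedCategory.isGE_iff _ _).2 fun k hk => by
    rcases lt_or_ge k (-(N : ℤ)) with hk' | hk'
    · haveI : M'.IsGE (-(N : ℤ)) := HDU.isGE_truncGE M _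
      exact DerivedCategory.isZero_of_isGE M' (-(N : ℤ)) k hk'
    · haveI := HDU.isIso_H_truncGEπ M (-(N : ℤ)) k hk'
      exact (hz k hk' (by omega)).of_iso
        (asIso ((DerivedCategory.homologyFunctor X.Modules k).map ((t.truncGEπ (-(N : ℤ))).app M))).symm
  haveI := DQPush.isGE_rpush p M' 1
  haveI := (hN M hM).2 N 0 (by omega)
  have h0 : IsZero (DCoh.HD ((DCoh.Rpush p).obj M) 0) :=
    (DerivedCategory.isZero_of_isGE _ 1 0 (by omega)).of_iso
      (asIso ((DerivedCategory.homologyFunctor T.Modules 0).map ((DCoh.Rpush p).map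
        ((t.truncGEπ (-(N : ℤ))).app M))))
  obtain ⟨adj⟩ := DerPush.nonempty_lpull_adj_rpush p
  let e : (DCoh.Lpull p).obj (DCoh.inD T (Coh.structureModule T)) ≅ DCoh.inD X (Coh.structureModule X) :=
    (DCoh.Lpull p).mapIso ((DerivedCategory.singleFunctorIsoCompQ _ 0).app _) ≪≫
      KFlat.lpullIso p RHomCx.isKFlat_O₀ ≪≫
      DerivedCategory.Q.mapIso ((singleMapHomologicalComplex (Scheme.Modules.pullback p) (ComplexShape.up ℤ) 0).app _ ≪≫
        (single X.Modules (ComplexShape.up ℤ) 0).mapIso (DerPerf.pullUnitIso p)) ≪≫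
      ((DerivedCategory.singleFunctorIsoCompQ _ 0).app _).symm
  have h1 := eq_zero_of_affine _ (DQPush.isQCohD_rpush p hM) h0 (adj.homEquiv _ _ (e.hom ≫ φ))
  haveI : SiteCmp.HasRpushD (ModSite.RMor.ofScheme p) := ‹DCoh.HasRpush p›
  have h3 : adj.homEquiv (DCoh.inD T (Coh.structureModule T)) M 0 = 0 := by
    rw [Adjunction.homEquiv_unit,
      show (DCoh.Rpush p).map (0 : (DCoh.Lpull p).obj (DCoh.inD T (Coh.structureModule T)) ⟶ M) = 0 from
        (SiteCmp.RpushD (ModSite.RMor.ofScheme p)).map_zero _ _, comp_zero]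
  rw [← cancel_epi e.hom, (adj.homEquiv _ _).injective (h1.trans h3.symm), comp_zero]

/-- `K = O ⊗^L K` -/
lemma nonempty_unit_ltensor {K : CochainComplex X.Modules ℤ} (hK : DCoh.IsKFlat K) [DCoh.HasLTensorCx K] :
    Nonempty ((DCoh.LTensorCx K).obj (DCoh.inD X (Coh.structureModule X)) ≅ DCoh.toD X K) := by
  let O₁ : CochainComplex X.Modules ℤ := (single X.Modules (ComplexShape.up ℤ) 0).obj (Coh.structureModule X)
  exact ⟨(DCoh.LTensorCx K).mapIso ((DerivedCategory.singleFunctorIsoCompQ _ 0).app _) ≪≫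
    KFlat.ltIsoOfKFlat hK O₁ ≪≫
    DerivedCategory.Q.mapIso (KFlat.swapIso (KFlat.braid X.sheaf) O₁ K ≪≫
      (KFlat.tensSingleIso (KFlat.schB X) K (Coh.structureModule X)).symm ≪≫
      (NatIso.mapHomologicalComplex (DQCoh.tensUnitNat X) (ComplexShape.up ℤ)).app K ≪≫
      (Functor.mapHomologicalComplexIdIso X.Modules (ComplexShape.up ℤ)).app K)⟩

/-- **maps out of a perfect object vanish when the cohomology of the target vanishes in a window** -/
theorem exists_window (X : Scheme.{u}) [CompactSpace X] [QuasiSeparatedSpace X] :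
    ∃ N : ℕ, ∀ (c d : ℤ) (K : CochainComplex X.Modules ℤ), LocIn c d K → DCoh.IsPerfect (DCoh.toD X K) →
      ∀ L : DCoh.D X, DCoh.IsQCohD L → (∀ k : ℤ, c - N ≤ k → k ≤ d → IsZero (DCoh.HD L k)) →
        ∀ φ : DCoh.toD X K ⟶ L, φ = 0 := by
  obtain ⟨N, hN⟩ := eq_zero_of_rpush (X := X)
  refine ⟨N, fun c d K hK hKp L hL hz φ => ?_⟩
  let K' := (resF X).obj K
  let eK : DCoh.toD X K' ≅ DCoh.toD X K := asIso (DerivedCategory.Q.map ((resψ X).app K))
  haveI := KFlat.hasLTensorCx K'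
  haveI := RHomCx.hasRSheafHom K'
  have hK' : LocIn c d K' := fun x => by
    obtain ⟨V, E, h1, h2, h3, ⟨a⟩⟩ := hK x
    exact ⟨V, E, h1, h2, h3, ⟨asIso (DerivedCategory.Q.map ((DCoh.restrictCx V).map ((resψ X).app K))) ≪≫ a⟩⟩
  have hq : DCoh.IsQCohD ((DCoh.RSheafHom K').obj L) := fun i =>
    RHomCx.prop_RSheafHom_perfect RHomCx.locClass_qcoh (X := X) trivial K' (DQCoh.perfect_of_iso eK.symm hKp) L hL i
  obtain ⟨u⟩ := nonempty_unit_ltensor (X := X) (isKFlat_resF K)
  have h1 := hN _ hq (fun k hk1 hk2 => isZero_HD_RSheafHom K' hK' L k fun j h1 h2 => hz _ (by omega) (by omega))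
    ((DCoh.RSheafHomAdj K').homEquiv _ _ (u.hom ≫ eK.hom ≫ φ))
  have h2 : ((DCoh.RSheafHomAdj K').homEquiv _ _).symm
      ((DCoh.RSheafHomAdj K').homEquiv _ _ (u.hom ≫ eK.hom ≫ φ)) = 0 := by
    rw [h1, Adjunction.homEquiv_counit, Functor.map_zero, zero_comp]
  rw [Equiv.symm_apply_apply] at h2
  rw [← cancel_epi eK.hom, ← cancel_epi u.hom, h2, comp_zero, comp_zero]

end Groth.Agent.PerfHom
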